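import Groth.Agent.H82.Order.Level

/-!
# Coordinates in any order on the group of a closed set of roots
-/

set_option autoImplicit false
set_option linter.style.haveILetI false
set_option linter.unusedSectionVars false
universe u

open CategoryTheory MonoidalCategory CartesianMonoidalCategory MonObj GrpObj AlgebraicGeometry
open Groth.Agent.Lib.RedPts Groth.Agent.H82.BigCell Groth.Agent.H82.Contract
open Groth.Agent.H82.RankOne (P P_eq P_zero P_comp P_add P_neg)
open Groth.Agent.H82.Order.Level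
open scoped commutatorElement

namespace Groth.Agent.H82.Closed

variable {S : Scheme.{u}} {G : Over S} [GrpObj G] {D : Red.SplitRed G} (Ψ : Set D.idx) (lam : D.M →+ ℤ)
variable {k : ℕ} (e : Fin k → D.idx)

/-- The product of root elements with given coordinates. -/
noncomputable def F {X : Over S} (x : Fin k → Γ(X.left, ⊤)) : X ⟶ G :=
  prodPts k fun i => P (D.u (e i)) (x i)

/-- The coordinates vanish below level `n`. -/
def Supp {X : Over S} (n : ℤ) (x : Fin k → Γ(X.left, ⊤)) : Prop :=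
  ∀ i, lam (D.P.root (e i)) < n → x i = 0

theorem F_zero {X : Over S} : F e (0 : Fin k → Γ(X.left, ⊤)) = (1 : X ⟶ G) :=
  prodPts_one fun i => by haveI : IsMonHom (D.u (e i)) := (D.rootHom (e i)).1; exact P_zero _

theorem comp_prodMap_eq_F {X : Over S} (z : X ⟶ RedSub.pow (Red.Ga S) k) :
    z ≫ RedSub.prodMap (Red.Ga S) k (fun i => D.u (e i)) = F e fun i => Red.gaFn (z ≫ proj k i) := by
  rw [comp_prodMap]
  refine congrArg _ (funext fun i => ?_)
  rw [← Category.assoc, P_eq]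

theorem tuple_prodMap_eq_F {X : Over S} (x : Fin k → Γ(X.left, ⊤)) :
    tuple k (fun i => Ga.gaPt (x i)) ≫ RedSub.prodMap (Red.Ga S) k (fun i => D.u (e i)) = F e x :=
  Reduced.prodPts_tuple e x

variable (hd : ∀ i ∈ Ψ, D.P.reflectionPerm i i ∉ Ψ) (hcl : RootD.IsClosedSub D.P Ψ)
  (hl : ∀ c, lam (D.P.root c) ≠ 0) (hpos : ∀ c ∈ Ψ, 0 < lam (D.P.root c))
  (he : RedSub.Enumerates Ψ e)

include he in
theorem F_mem {X : Over S} {n : ℤ} {x : Fin k → Γ(X.left, ⊤)} (hx : Supp lam e n x) :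
    F e x ∈ V Ψ lam X n := by
  refine Order.prodPts_mem _ fun i => ?_
  by_cases h : n ≤ lam (D.P.root (e i))
  · exact mem_V Ψ lam (he.2 ▸ Set.mem_range_self i) h _
  · haveI : IsMonHom (D.u (e i)) := (D.rootHom (e i)).1
    rw [hx i (lt_of_not_ge h), P_zero]
    exact one_mem _

include hd hcl hl hpos

theorem conj_one_mem {X : Over S} {m : ℤ} {y : X ⟶ G} (hy : y ∈ V Ψ lam X 1) :
    ∀ g ∈ V Ψ lam X m, y * g * y⁻¹ ∈ V Ψ lam X m ∧ y⁻¹ * g * y ∈ V Ψ lam X m := by
  have h : ∀ a ∈ Ψ, ∀ (r : Γ(X.left, ⊤)), ∀ g ∈ V Ψ lam X m,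
      P (D.u a) r * g * (P (D.u a) r)⁻¹ ∈ V Ψ lam X m := by
    intro a ha r g hg
    induction hg using Subgroup.closure_induction with
    | mem g hg =>
      obtain ⟨c, s, hc, hle, rfl⟩ := hg
      rw [show P (D.u a) r * P (D.u c) s * (P (D.u a) r)⁻¹ =
        ⁅P (D.u a) r, P (D.u c) s⁆ * P (D.u c) s by rw [commutatorElement_def]; group]
      refine mul_mem ?_ (mem_V Ψ lam hc hle s)
      exact comm_root Ψ lam hd hcl hl hpos hc ha (by have := hpos a ha; omega) s r
    | one => simp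
    | mul p q _ _ hp hq => convert mul_mem hp hq using 1; group
    | inv p _ hp => convert inv_mem hp using 1; group
  induction hy using Subgroup.closure_induction with
  | mem y hy =>
    obtain ⟨a, r, ha, -, rfl⟩ := hy
    haveI : IsMonHom (D.u a) := (D.rootHom a).1
    refine fun g hg => ⟨h a ha r g hg, ?_⟩
    have := h a ha (-r) g hg
    rwa [P_neg, _root_.inv_inv] at this
  | one => exact fun g hg => by simpa using hg
  | mul p q _ _ hp hq =>
    refine fun g hg => ⟨?_, ?_⟩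
    · convert (hp _ (hq g hg).1).1 using 1; group
    · convert (hq _ (hp g hg).2).2 using 1; group
  | inv p _ hp => exact fun g hg => ⟨by simpa using (hp g hg).2, by simpa using (hp g hg).1⟩

theorem central {X : Over S} {n : ℤ} {a : D.idx} (ha : a ∈ Ψ) (hn : n ≤ lam (D.P.root a))
    (r : Γ(X.left, ⊤)) {q : X ⟶ G} (hq : q ∈ V Ψ lam X 1) : ⁅P (D.u a) r, q⁆ ∈ V Ψ lam X (n + 1) := by
  induction hq using Subgroup.closure_induction with
  | mem q hq =>
    obtain ⟨c, s, hc, hnc, rfl⟩ := hq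
    exact comm_root Ψ lam hd hcl hl hpos hc ha (by omega) s r
  | one => simp
  | mul p q hp _ ihp ihq =>
    convert mul_mem ihp (conj_one_mem Ψ lam hd hcl hl hpos hp _ ihq).1 using 1
    rw [commutatorElement_def, commutatorElement_def, commutatorElement_def]; group
  | inv p hp ihp =>
    convert (conj_one_mem Ψ lam hd hcl hl hpos hp _ (inv_mem ihp)).2 using 1
    rw [commutatorElement_def, commutatorElement_def]; group

omit hd hcl hl in
theorem le_one {X : Over S} {n : ℤ} : V Ψ lam X n ≤ V Ψ lam X 1 :=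
  (Subgroup.closure_le _).2 fun g ⟨c, r, hc, _, hg⟩ => hg ▸ mem_V Ψ lam hc (hpos c hc) r

/-- Adding coordinates of level at least `n` is multiplication modulo the next level. -/
theorem F_mul {X : Over S} {n : ℤ} : ∀ {k : ℕ} {e : Fin k → D.idx}, (∀ i, e i ∈ Ψ) →
    ∀ x d : Fin k → Γ(X.left, ⊤), Supp lam e n d →
      ∃ h ∈ V Ψ lam X (n + 1), F e x * F e d = F e (x + d) * h
  | 0, _, _, x, d, _ => ⟨1, one_mem _, by simp [F]⟩
  | k + 1, e, hek, x, d, hd' => by
    haveI : IsMonHom (D.u (e 0)) := (D.rootHom (e 0)).1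
    obtain ⟨h, hh, heq⟩ := F_mul (e := fun i => e i.succ) (fun i => hek i.succ) (fun i => x i.succ) (fun i => d i.succ)
      (fun i hi => hd' i.succ hi)
    have e1 : ∀ z : Fin (k + 1) → Γ(X.left, ⊤),
        F e z = P (D.u (e 0)) (z 0) * F (fun i => e i.succ) fun i => z i.succ := fun z => prodPts_succ _
    rw [e1, e1, e1]
    set A := F (fun i => e i.succ) fun i => x i.succ
    set B := F (fun i => e i.succ) fun i => d i.succ
    set b := P (D.u (e 0)) (d 0) with hb
    have hA : A ∈ V Ψ lam X 1 := Order.prodPts_mem _ fun i => mem_V Ψ lam (hek i.succ) (hpos _ (hek i.succ)) _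
    have hB : B ∈ V Ψ lam X 1 := Order.prodPts_mem _ fun i => mem_V Ψ lam (hek i.succ) (hpos _ (hek i.succ)) _
    have hc : ⁅b⁻¹, A⁻¹⁆ ∈ V Ψ lam X (n + 1) := by
      by_cases h0 : n ≤ lam (D.P.root (e 0))
      · rw [hb, ← P_neg]
        exact central Ψ lam hd hcl hl hpos (hek 0) h0 _ (inv_mem hA)
      · rw [hb, hd' 0 (lt_of_not_ge h0), P_zero]
        simp
    refine ⟨_, mul_mem hh (conj_one_mem Ψ lam hd hcl hl hpos hB _ (inv_mem hc)).2, ?_⟩
    change _ = P (D.u (e 0)) (x 0 + d 0) * F (fun i => e i.succ) (fun i => x i.succ + d i.succ) * _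
    change A * B = F (fun i => e i.succ) (fun i => x i.succ + d i.succ) * h at heq
    rw [P_add, _root_.mul_assoc (P (D.u (e 0)) (x 0) * b), ← _root_.mul_assoc (F _ _) h, ← heq,
      commutatorElement_def]
    group

include he

/-- Every element of level `n` is a product of root elements of level exactly `n` modulo the next level. -/
theorem split {X : Over S} {n : ℤ} (hn : 1 ≤ n) {r : X ⟶ G} (hr : r ∈ V Ψ lam X n) :
    ∃ d : Fin k → Γ(X.left, ⊤), Supp lam e n d ∧ (∀ i, n < lam (D.P.root (e i)) → d i = 0) ∧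
      ∃ h ∈ V Ψ lam X (n + 1), r = F e d * h := by
  classical
  haveI : ∀ c, IsMonHom (D.u c) := fun c => (D.rootHom c).1
  have hek : ∀ i, e i ∈ Ψ := fun i => he.2 ▸ Set.mem_range_self i
  induction hr using Subgroup.closure_induction with
  | mem g hg =>
    obtain ⟨c, s, hc, hle, rfl⟩ := hg
    rcases hle.eq_or_lt with heq | hlt
    · obtain ⟨i, rfl⟩ : c ∈ Set.range e := he.2.symm ▸ hc
      refine ⟨Pi.single i s, fun j hj => ?_, fun j hj => ?_, 1, one_mem _, ?_⟩
      · exact Pi.single_eq_of_ne (by rintro rfl; omega) _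
      · exact Pi.single_eq_of_ne (by rintro rfl; omega) _
      · rw [_root_.mul_one]
        exact (Order.Level.prodPts_single e i s).symm
    · exact ⟨0, fun _ _ => rfl, fun _ _ => rfl, _, mem_V Ψ lam hc (by omega) s, by rw [F_zero, _root_.one_mul]⟩
  | one => exact ⟨0, fun _ _ => rfl, fun _ _ => rfl, 1, one_mem _, by rw [F_zero, _root_.one_mul]⟩
  | mul p q _ _ hp hq =>
    obtain ⟨d, hd1, hd2, h, hh, rfl⟩ := hp
    obtain ⟨d', hd1', hd2', h', hh', rfl⟩ := hq
    obtain ⟨h'', hh'', e2⟩ := F_mul Ψ lam hd hcl hl hpos hek d d' hd1'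
    refine ⟨d + d', fun i hi => by simp [hd1 i hi, hd1' i hi], fun i hi => by simp [hd2 i hi, hd2' i hi],
      h'' * ((F e d')⁻¹ * h * F e d') * h', mul_mem (mul_mem hh''
        (conj_one_mem Ψ lam hd hcl hl hpos (le_one Ψ lam hpos (F_mem Ψ lam e he hd1')) h hh).2) hh', ?_⟩
    simp only [← _root_.mul_assoc]
    rw [← e2]
    group
  | inv p _ hp =>
    obtain ⟨d, hd1, hd2, h, hh, rfl⟩ := hp
    have hneg : Supp lam e n (-d) := fun i hi => by simp [hd1 i hi]
    obtain ⟨h'', hh'', e2⟩ := F_mul Ψ lam hd hcl hl hpos hek d (-d) hneg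
    rw [add_neg_cancel, F_zero, _root_.one_mul] at e2
    refine ⟨-d, hneg, fun i hi => by simp [hd2 i hi], ((F e (-d))⁻¹ * h⁻¹ * F e (-d)) * h''⁻¹,
      mul_mem (conj_one_mem Ψ lam hd hcl hl hpos (le_one Ψ lam hpos (F_mem Ψ lam e he hneg)) _
        (inv_mem hh)).2 (inv_mem hh''), ?_⟩
    rw [← e2]
    group

/-- Coordinates may be corrected level by level. -/
theorem approx {X : Over S} {g : X ⟶ G} : ∀ {m : ℤ}, 1 ≤ m → ∀ x : Fin k → Γ(X.left, ⊤),
    (F e x)⁻¹ * g ∈ V Ψ lam X m →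
      ∃ x' : Fin k → Γ(X.left, ⊤), (∀ i, lam (D.P.root (e i)) < m → x' i = x i) ∧ F e x' = g := by
  classical
  haveI := Fintype.ofFinite D.idx
  obtain ⟨N, hN⟩ : ∃ N : ℤ, ∀ c, lam (D.P.root c) < N :=
    ⟨∑ c, |lam (D.P.root c)| + 1, fun c => by
      have h1 := Finset.single_le_sum (fun i _ => abs_nonneg (lam (D.P.root i))) (Finset.mem_univ c)
      have h2 := le_abs_self (lam (D.P.root c))
      omega⟩
  suffices H : ∀ (q : ℕ) (m : ℤ), 1 ≤ m → N ≤ m + q → ∀ x : Fin k → Γ(X.left, ⊤), (F e x)⁻¹ * g ∈ V Ψ lam X m →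
      ∃ x' : Fin k → Γ(X.left, ⊤), (∀ i, lam (D.P.root (e i)) < m → x' i = x i) ∧ F e x' = g from
    fun {m} hm x hx => H (N - m).toNat m hm (by omega) x hx
  intro q
  induction q with
  | zero =>
    intro m hm hN' x hx
    refine ⟨x, fun _ _ => rfl, ?_⟩
    have : V Ψ lam X m = ⊥ := le_bot_iff.1 ((Subgroup.closure_le _).2 fun g' ⟨c, r, _, hle, _⟩ => by
      have := hN c; push_cast at hN'; omega)
    rw [this, Subgroup.mem_bot, inv_mul_eq_one] at hx
    exact hx
  | succ q ih =>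
    intro m hm hN' x hx
    obtain ⟨d, hd1, -, h, hh, eq⟩ := split Ψ lam e hd hcl hl hpos he hm hx
    obtain ⟨h', hh', e2⟩ := F_mul Ψ lam hd hcl hl hpos (fun i => he.2 ▸ Set.mem_range_self i) x d hd1
    obtain ⟨x', hx'1, hx'2⟩ := ih (m + 1) (by omega) (by push_cast at hN' ⊢; omega) (x + d) (by
      rw [show (F e (x + d))⁻¹ * g = h' * h by
        rw [inv_mul_eq_iff_eq_mul, ← _root_.mul_assoc, ← e2, _root_.mul_assoc, ← eq, mul_inv_cancel_left]]
      exact mul_mem hh' hh)
    exact ⟨x', fun i hi => by rw [hx'1 i (by omega), Pi.add_apply, hd1 i hi, add_zero], hx'2⟩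

theorem exists_F {X : Over S} {g : X ⟶ G} (hg : g ∈ V Ψ lam X 1) : ∃ x, F e x = g := by
  obtain ⟨x', -, h⟩ := approx Ψ lam e hd hcl hl hpos he (g := g) le_rfl 0 (by
    rw [F_zero, inv_one, _root_.one_mul]; exact hg)
  exact ⟨x', h⟩

omit hd hcl in
theorem F_injective {X : Over S} {x y : Fin k → Γ(X.left, ⊤)} (h : F e x = F e y) : x = y :=
  Reduced.eq_of_prodPts (l := -lam) he.1
    (fun i => neg_neg_of_pos (hpos _ (he.2 ▸ Set.mem_range_self i))) h

/-- The coordinates of the lowest level are additive. -/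
theorem level_add {X : Over S} {n : ℤ} (hn : 1 ≤ n) {x y z : Fin k → Γ(X.left, ⊤)}
    (hy : Supp lam e n y) (h : F e x * F e y = F e z) (i : Fin k) (hi : lam (D.P.root (e i)) = n) :
    z i = x i + y i := by
  obtain ⟨h', hh', e2⟩ := F_mul Ψ lam hd hcl hl hpos (fun i => he.2 ▸ Set.mem_range_self i) x y hy
  obtain ⟨w, hw1, hw2⟩ := approx Ψ lam e hd hcl hl hpos he (g := F e z) (m := n + 1) (by omega) (x + y) (by
    rw [← h, e2, inv_mul_cancel_left]; exact hh')
  rw [← F_injective Ψ lam e hl hpos he hw2, hw1 i (by omega), Pi.add_apply]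

end Groth.Agent.H82.Closed
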