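import Groth.Agent.H82.Closed.Coords
import Groth.Agent.H82.RankOne2.Fibre
import Groth.Agent.H1.Classical.Apply

/-!
# Geometric fibres of the group of a closed set of roots
-/

set_option autoImplicit false
set_option linter.style.haveILetI false
set_option linter.unusedSectionVars false
universe u

open CategoryTheory MonoidalCategory CartesianMonoidalCategory MonObj GrpObj AlgebraicGeometry
open Groth.Agent.Lib.RedPts Groth.Agent.H82.BigCell Groth.Agent.H82.Contract
open Groth.Agent.H82.RankOne (P P_eq P_zero P_comp P_add P_neg)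
open Groth.Agent.H82.Order.Level

namespace Groth.Agent.H82.Closed

variable {S : Scheme.{u}}

/-- A geometric fibre of a power of the additive group is connected. -/
theorem connected_pow (k : ℕ) {K : Type u} [Field K] [IsAlgClosed K] (f : Spec (CommRingCat.of K) ⟶ S) :
    ConnectedSpace ↥(Red.bc f (RedSub.pow (Red.Ga S) k)).left := by
  haveI := smoothOfRelativeDimension_pow (S := S) k
  haveI : Smooth (RedSub.pow (Red.Ga S) k).hom := SmoothOfRelativeDimension.smooth k _
  haveI : Smooth (Red.bc f (RedSub.pow (Red.Ga S) k)).hom := inferInstanceAs (Smooth (Limits.pullback.snd (RedSub.pow (Red.Ga S) k).hom f))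
  haveI : JacobsonSpace (Red.bc f (RedSub.pow (Red.Ga S) k)).left :=
    LocallyOfFiniteType.jacobsonSpace (Red.bc f (RedSub.pow (Red.Ga S) k)).hom
  set X := Red.bc f (RedSub.pow (Red.Ga S) k)
  let K₁ := 𝟙_ (Over (Spec (CommRingCat.of K)))
  let A : Over (Spec (CommRingCat.of K)) := Red.Ga (Spec (CommRingCat.of K))
  let cd : (K₁ ⟶ X) → Fin k → Γ(((Over.map f).obj K₁).left, ⊤) := fun z i =>
    let c : (Over.map f).obj K₁ ⟶ Red.Ga S := BC.down f z ≫ proj k i
    Red.gaFn c
  haveI hA : ConnectedSpace A.left := connected_Ga K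
  let p₀ : K₁ ⟶ X := BC.up f (tuple k fun _ => Ga.gaPt 0)
  obtain ⟨s₀⟩ : Nonempty ↥(Spec (CommRingCat.of K)) := inferInstance
  have hmem : ∀ q : K₁ ⟶ X, q.left s₀ ∈ connectedComponent (p₀.left s₀) := by
    intro q
    let co : (K₁ ⟶ X) → Fin k → Γ(A.left, ⊤) := fun z i =>
      (toUnit A).left.appTop (cd z i)
    let t₀ := Red.gaFn (𝟙 A)
    let tt : Γ(A.left, ⊤) := t₀
    let cs : Fin k → Γ(A.left, ⊤) := fun i => tt * co q i + (1 - tt) * co p₀ i
    let crv : A ⟶ X := BC.up f (tuple k fun i => Ga.gaPt (X := (Over.map f).obj A) (cs i))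
    have key : ∀ (z : K₁ ⟶ A) (w : K₁ ⟶ X),
        (∀ i, z.left.appTop (tt * co q i + (1 - tt) * co p₀ i) = cd w i) →
        z ≫ crv = w := fun z w h => by
      refine BC.down_injective (pow_ext fun i => Ga.gaFn_injective ?_)
      rw [BC.down_comp, BC.down_up, Category.assoc, tuple_proj, Ga.gaFn_comp, Ga.gaFn_gaPt]
      exact h i
    have hco : ∀ (z : K₁ ⟶ A) (w : K₁ ⟶ X) (i : Fin k),
        z.left.appTop (co w i) = cd w i := fun z w i => by
      change ((toUnit A).left.appTop ≫ z.left.appTop) _ = _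
      rw [← Scheme.Hom.comp_appTop, ← Over.comp_left, toUnit_unique (z ≫ toUnit A) (𝟙 _)]
      rfl
    have ht : ∀ r : Γ(K₁.left, ⊤), (Ga.gaPt (X := K₁) r).left.appTop tt = r := fun r => by
      change (Ga.gaPt (X := K₁) r).left.appTop (Red.gaFn (𝟙 A)) = r
      rw [← Ga.gaFn_comp, Category.comp_id, Ga.gaFn_gaPt]
    have h1 : Ga.gaPt (X := K₁) 1 ≫ crv = q := key _ _ fun i => by
      simp only [map_add, map_mul, map_sub, map_one, ht, hco]
      ring
    have h0 : Ga.gaPt (X := K₁) 0 ≫ crv = p₀ := key _ _ fun i => by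
      simp only [map_add, map_mul, map_sub, map_one, ht, hco]
      ring
    refine (isConnected_range crv.left.continuous).subset_connectedComponent ?_ ?_
    · exact ⟨(Ga.gaPt (X := K₁) 0).left s₀, by rw [← Scheme.Hom.comp_apply, ← Over.comp_left, h0]⟩
    · exact ⟨(Ga.gaPt (X := K₁) 1).left s₀, by rw [← Scheme.Hom.comp_apply, ← Over.comp_left, h1]⟩
  rw [connectedSpace_iff_connectedComponent]
  refine ⟨p₀.left s₀, Set.eq_univ_of_univ_subset ?_⟩
  rw [← closure_closedPoints]
  refine closure_minimal (fun y hy => ?_) isClosed_connectedComponent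
  obtain ⟨q, hq⟩ := H1.Classical.Scheme'.exists_point (Y := X) hy
  exact hq s₀ ▸ hmem q

variable {G : Over S} [GrpObj G] {D : Red.SplitRed G} (Ψ : Set D.idx) (lam : D.M →+ ℤ)
variable {k : ℕ} (e : Fin k → D.idx)
variable (hd : ∀ i ∈ Ψ, D.P.reflectionPerm i i ∉ Ψ) (hcl : RootD.IsClosedSub D.P Ψ)
  (hl : ∀ c, lam (D.P.root c) ≠ 0) (hpos : ∀ c ∈ Ψ, 0 < lam (D.P.root c))
  (he : RedSub.Enumerates Ψ e)

include hd hcl hl hpos he in
/-- A geometric fibre of the group of a closed set of roots has no non-trivial subtorus. -/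
theorem hasNoSubtorus [GrpObj (RedSub.pow (Red.Ga S) k)]
    [IsMonHom (RedSub.prodMap (Red.Ga S) k fun i => D.u (e i))]
    {K : Type u} [Field K] (f : Spec (CommRingCat.of K) ⟶ S) :
    Red.HasNoSubtorus K (Red.bc f (RedSub.pow (Red.Ga S) k)) := by
  intro T' instT j hj hmj hT'
  letI := instT; haveI := hj; haveI := hmj
  let g := BC.down f j
  have hzero : ∀ n : ℕ, ∀ i, lam (D.P.root (e i)) < (n : ℤ) + 1 → Red.gaFn (g ≫ proj k i) = 0 := by
    intro n
    induction n with
    | zero =>
      intro i hi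
      have := hpos _ (he.2 ▸ Set.mem_range_self i)
      omega
    | succ n ih =>
      intro i hi
      rcases lt_or_eq_of_le (show lam (D.P.root (e i)) ≤ (n : ℤ) + 1 by push_cast at hi; omega) with h | h
      · exact ih i h
      let c : (Over.map f).obj T' ⟶ Red.Ga S := g ≫ proj k i
      let r := Red.gaFn c
      let φ : T' ⟶ Red.Ga (Spec (CommRingCat.of K)) := Ga.gaPt (X := T') r
      have hφ : ∀ {X : Over (Spec (CommRingCat.of K))} (a : X ⟶ T'),
          Red.gaFn (a ≫ φ) = Red.gaFn ((Over.map f).map a ≫ g ≫ proj k i) := fun a => by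
        rw [Ga.gaFn_comp, Ga.gaFn_gaPt, Ga.gaFn_comp ((Over.map f).map a)]
        rfl
      haveI : IsMonHom φ := Groth.Agent.H87.HomDS.isMonHom_of_points φ fun X a b => Ga.gaFn_injective (by
        rw [Ga.gaFn_mul, hφ, hφ, hφ]
        have hab : (Over.map f).map (a * b) ≫ g = ((Over.map f).map a ≫ g) * ((Over.map f).map b ≫ g) := by
          rw [← BC.down_comp, MonObj.mul_comp a b j, BC.down_mul, BC.down_comp, BC.down_comp]
        let co : ((Over.map f).obj X ⟶ RedSub.pow (Red.Ga S) k) → Fin k → Γ(((Over.map f).obj X).left, ⊤) :=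
          fun z i => Red.gaFn (z ≫ proj k i)
        have hF : F e (co ((Over.map f).map a ≫ g)) * F e (co ((Over.map f).map b ≫ g)) =
            F e (co ((Over.map f).map (a * b) ≫ g)) := by
          rw [← comp_prodMap_eq_F, ← comp_prodMap_eq_F, ← comp_prodMap_eq_F, hab, MonObj.mul_comp]
        have hsupp : Supp lam e ((n : ℤ) + 1) (co ((Over.map f).map b ≫ g)) := fun m hm => by
          change Red.gaFn (((Over.map f).map b ≫ g) ≫ proj k m) = 0
          rw [Category.assoc, Ga.gaFn_comp, ih m hm, map_zero]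
        have := level_add Ψ lam e hd hcl hl hpos he (n := (n : ℤ) + 1) (by omega) hsupp hF i h
        simp only [co, Category.assoc] at this
        exact this)
      have h2 := congrArg Red.gaFn (torus_hom_Ga_eq_one T' hT' φ)
      rw [Ga.gaFn_gaPt, Ga.gaFn_one] at h2
      exact h2
  have hall : ∀ i, Red.gaFn (g ≫ proj k i) = 0 := fun i =>
    hzero (lam (D.P.root (e i))).toNat i (by omega)
  have h2 : j = 1 := by
    refine BC.down_injective (f := f) ?_
    rw [BC.down_one]
    have hi : ∀ (z z' : (Over.map f).obj T' ⟶ RedSub.pow (Red.Ga S) k),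
        z ≫ (RedSub.prodMap (Red.Ga S) k fun i => D.u (e i)) = z' ≫ (RedSub.prodMap (Red.Ga S) k fun i => D.u (e i)) →
          z = z' := fun z z' h => by
      rw [comp_prodMap_eq_F, comp_prodMap_eq_F] at h
      have h' := F_injective Ψ lam e hl hpos he h
      exact pow_ext fun i => Ga.gaFn_injective (congrFun h' i)
    refine hi _ _ ?_
    rw [MonObj.one_comp, comp_prodMap_eq_F]
    exact (congrArg (F e) (funext hall)).trans (F_zero e)
  have h3 : 𝟙 T' = (1 : T' ⟶ T') := by
    rw [← cancel_mono j, Category.id_comp, MonObj.one_comp j, h2]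
  refine ⟨⟨η[T'].left, ?_, Over.w η[T']⟩⟩
  have h4 := congrArg Over.Hom.left h3
  rw [Hom.one_def, Over.comp_left, Over.id_left] at h4
  exact h4.symm

end Groth.Agent.H82.Closed
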